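import Mathlib
import Cfsg.Agent.Lib.Helper99.CHO.Defs
import Cfsg.Agent.Lib.Helper47.CHO.Tab

/-!
# Project CHO (S1082 / S1083): package [ISO-B2] (helper47)

The model root elements `E_r(t) = 1 + t N_r + t² M_r` of type B2 are isometries of
`x_0² + x_1 y_1 + x_2 y_2`.
-/

set_option autoImplicit false

namespace Cfsg.Agent.Lib.Helper47.CHO

open Matrix Cfsg.Agent.Lib.Helper99.CHO

universe u

/-- the table of the matrix `H` with `Q(v) = vᵀ H v` -/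
def hTab5 (a c : ℕ) : ℤ :=
  if (a = 0 ∧ c = 0) ∨ (a = 1 ∧ c = 3) ∨ (a = 2 ∧ c = 4) then 1 else 0

/-- transpose of a table -/
def tT (f : ℕ → ℕ → ℤ) (a c : ℕ) : ℤ := f c a

/-- product of two `5 × 5` tables -/
def tMul5 (f g : ℕ → ℕ → ℤ) (a c : ℕ) : ℤ := ∑ k ∈ Finset.range 5, f a k * g k c

/-- sum of two tables -/
def tAdd (f g : ℕ → ℕ → ℤ) (a c : ℕ) : ℤ := f a c + g a c

/-- the table of `Nᵀ H + H N` -/
def y1B2 (r : ℕ) : ℕ → ℕ → ℤ :=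
  tAdd (tMul5 (tT (tab3 nListB2 r)) hTab5) (tMul5 hTab5 (tab3 nListB2 r))

/-- the table of `Mᵀ H + H M + Nᵀ H N` -/
def y2B2 (r : ℕ) : ℕ → ℕ → ℤ :=
  tAdd (tAdd (tMul5 (tT (tab3 mListB2 r)) hTab5) (tMul5 hTab5 (tab3 mListB2 r)))
    (tMul5 (tMul5 (tT (tab3 nListB2 r)) hTab5) (tab3 nListB2 r))

/-- the table of `Nᵀ H M + Mᵀ H N` -/
def y3B2 (r : ℕ) : ℕ → ℕ → ℤ :=
  tAdd (tMul5 (tMul5 (tT (tab3 nListB2 r)) hTab5) (tab3 mListB2 r))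
    (tMul5 (tMul5 (tT (tab3 mListB2 r)) hTab5) (tab3 nListB2 r))

/-- the table of `Mᵀ H M` -/
def y4B2 (r : ℕ) : ℕ → ℕ → ℤ :=
  tMul5 (tMul5 (tT (tab3 mListB2 r)) hTab5) (tab3 mListB2 r)

theorem d1B2 : ∀ r < 8, ∀ a < 5, ∀ c < 5, y1B2 r a c + y1B2 r c a = 0 := by decide +kernel
theorem d1B2' : ∀ r < 8, ∀ a < 5, y1B2 r a a = 0 := by decide +kernel
theorem d2B2 : ∀ r < 8, ∀ a < 5, ∀ c < 5, y2B2 r a c + y2B2 r c a = 0 := by decide +kernel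
theorem d2B2' : ∀ r < 8, ∀ a < 5, y2B2 r a a = 0 := by decide +kernel
theorem d3B2 : ∀ r < 8, ∀ a < 5, ∀ c < 5, y3B2 r a c + y3B2 r c a = 0 := by decide +kernel
theorem d3B2' : ∀ r < 8, ∀ a < 5, y3B2 r a a = 0 := by decide +kernel
theorem d4B2 : ∀ r < 8, ∀ a < 5, ∀ c < 5, y4B2 r a c + y4B2 r c a = 0 := by decide +kernel
theorem d4B2' : ∀ r < 8, ∀ a < 5, y4B2 r a a = 0 := by decide +kernel

theorem quadOdd_eq (K : Type u) [Field K] (v : Unit ⊕ (Fin 2 ⊕ Fin 2) → K) :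
    Cfsg.quadFormOdd 2 K v = v ⬝ᵥ TM K ix5 hTab5 *ᵥ v := by
  simp [Cfsg.quadFormOdd, dotProduct, Matrix.mulVec, TM_apply, Fintype.sum_sum_type,
    Fin.sum_univ_two, hTab5, ix5]
  ring

theorem TM_mul5 {K : Type u} [Field K] (f g : ℕ → ℕ → ℤ) :
    TM K ix5 f * TM K ix5 g = TM K ix5 (tMul5 f g) := TM_mul pos5 f g

theorem TM_tT {K : Type u} [Field K] (f : ℕ → ℕ → ℤ) :
    (TM K ix5 f)ᵀ = TM K ix5 (tT f) := rfl

theorem TM_tAdd {K : Type u} [Field K] (f g : ℕ → ℕ → ℤ) :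
    TM K ix5 f + TM K ix5 g = TM K ix5 (tAdd f g) := TM_add f g

/-- [ISO-B2] -/
theorem pkgIsoB2 : PkgIsoB2.{u} := by
  intro K _ r t hr v
  rw [quadOdd_eq, quadOdd_eq, dot_conj]
  have hE : (EB2mat K r t)ᵀ * TM K ix5 hTab5 * EB2mat K r t =
      TM K ix5 hTab5 + t • TM K ix5 (y1B2 r) + t ^ 2 • TM K ix5 (y2B2 r) +
        t ^ 3 • TM K ix5 (y3B2 r) + t ^ 4 • TM K ix5 (y4B2 r) := by
    unfold EB2mat y1B2 y2B2 y3B2 y4B2
    rw [NB2_eq, MB2_eq]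
    simp only [← TM_mul5, ← TM_tAdd, ← TM_tT]
    simp only [Matrix.transpose_add, Matrix.transpose_one, Matrix.transpose_smul, Matrix.add_mul,
      Matrix.mul_add, Matrix.one_mul, Matrix.mul_one, Matrix.smul_mul, Matrix.mul_smul, smul_smul,
      smul_add]
    module
  rw [hE]
  simp only [Matrix.add_mulVec, Matrix.smul_mulVec, dotProduct_add, dotProduct_smul, smul_eq_mul]
  rw [TM_alt pos5 (d1B2 r hr) (d1B2' r hr), TM_alt pos5 (d2B2 r hr) (d2B2' r hr),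
    TM_alt pos5 (d3B2 r hr) (d3B2' r hr), TM_alt pos5 (d4B2 r hr) (d4B2' r hr)]
  ring

end Cfsg.Agent.Lib.Helper47.CHO
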