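import Mathlib
import Cfsg.Agent.Lib.Helper99.CHO.Defs
import Cfsg.Agent.Lib.Helper47.CHO.Tab

/-!
# Project CHO (S1082 / S1083): package [ISO-D4] (helper47)

The model root elements `E_r(t) = 1 + t N_r` of type D4 are isometries of `Σ x_i y_i`.
-/

set_option autoImplicit false

namespace Cfsg.Agent.Lib.Helper47.CHO

open Matrix Cfsg.Agent.Lib.Helper99.CHO

universe u

/-- the table of the matrix `H` with `Q(v) = vᵀ H v`: `H[a][c] = 1` iff `c = a + 4` -/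
def hTab8 (a c : ℕ) : ℤ := if c = a + 4 then 1 else 0

/-- the table of `Nᵀ H + H N` -/
def x1D4 (r a c : ℕ) : ℤ :=
  (∑ k ∈ Finset.range 8, tab3 nListD4 r k a * hTab8 k c) +
    ∑ k ∈ Finset.range 8, hTab8 a k * tab3 nListD4 r k c

/-- the table of `Nᵀ H N` -/
def x2D4 (r a c : ℕ) : ℤ :=
  ∑ k ∈ Finset.range 8, (∑ l ∈ Finset.range 8, tab3 nListD4 r l a * hTab8 l k) *
    tab3 nListD4 r k c

theorem d1D4 : ∀ r < 24, ∀ a < 8, ∀ c < 8, x1D4 r a c + x1D4 r c a = 0 := by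
  decide +kernel

theorem d1D4' : ∀ r < 24, ∀ a < 8, x1D4 r a a = 0 := by
  decide +kernel

theorem d2D4 : ∀ r < 24, ∀ a < 8, ∀ c < 8, x2D4 r a c + x2D4 r c a = 0 := by
  decide +kernel

theorem d2D4' : ∀ r < 24, ∀ a < 8, x2D4 r a a = 0 := by
  decide +kernel

theorem quadPlus_eq (K : Type u) [Field K] (v : Fin 4 ⊕ Fin 4 → K) :
    Cfsg.quadFormPlus 4 K v = v ⬝ᵥ TM K ix8 hTab8 *ᵥ v := by
  simp [Cfsg.quadFormPlus, dotProduct, Matrix.mulVec, TM_apply, Fintype.sum_sum_type,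
    Fin.sum_univ_four, hTab8, ix8]

/-- [ISO-D4] -/
theorem pkgIsoD4 : PkgIsoD4.{u} := by
  intro K _ r t hr v
  rw [quadPlus_eq, quadPlus_eq, dot_conj]
  have e1 : TM K ix8 (x1D4 r) = (TM K ix8 (tab3 nListD4 r))ᵀ * TM K ix8 hTab8 +
      TM K ix8 hTab8 * TM K ix8 (tab3 nListD4 r) := by
    rw [TM_transpose, TM_mul pos8, TM_mul pos8, TM_add]
    rfl
  have e2 : TM K ix8 (x2D4 r) = (TM K ix8 (tab3 nListD4 r))ᵀ * TM K ix8 hTab8 *
      TM K ix8 (tab3 nListD4 r) := by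
    rw [TM_transpose, TM_mul pos8, TM_mul pos8]
    rfl
  have hE : (ED4mat K r t)ᵀ * TM K ix8 hTab8 * ED4mat K r t =
      TM K ix8 hTab8 + t • TM K ix8 (x1D4 r) + (t * t) • TM K ix8 (x2D4 r) := by
    unfold ED4mat
    rw [ND4_eq, e1, e2]
    simp only [Matrix.transpose_add, Matrix.transpose_one, Matrix.transpose_smul, Matrix.add_mul,
      Matrix.mul_add, Matrix.one_mul, Matrix.mul_one, Matrix.smul_mul, Matrix.mul_smul, smul_smul,
      smul_add]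
    module
  rw [hE]
  simp only [Matrix.add_mulVec, Matrix.smul_mulVec, dotProduct_add, dotProduct_smul, smul_eq_mul]
  rw [TM_alt pos8 (d1D4 r hr) (d1D4' r hr), TM_alt pos8 (d2D4 r hr) (d2D4' r hr)]
  ring

end Cfsg.Agent.Lib.Helper47.CHO
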