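import Mathlib
import Cfsg.Agent.Lib.Helper99.CHO.Defs
import Cfsg.Agent.Lib.Helper47.CHO.Tab

/-!
# Project CHO (S1082 / S1083): package [UNIT-B2] (helper47)

`E_r(t) = 1 + t N_r + t² M_r` of type B2 is invertible: `E_r(t) E_r(-t) = 1`.
-/

set_option autoImplicit false

namespace Cfsg.Agent.Lib.Helper47.CHO

open Matrix Cfsg.Agent.Lib.Helper99.CHO

universe u

theorem dNN_B2 : ∀ r < 8, ∀ a < 5, ∀ c < 5,
    ∑ k ∈ Finset.range 5, tab3 nListB2 r a k * tab3 nListB2 r k c =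
      tab3 mListB2 r a c + tab3 mListB2 r a c := by
  decide +kernel

theorem dNM_B2 : ∀ r < 8, ∀ a < 5, ∀ c < 5,
    ∑ k ∈ Finset.range 5, tab3 nListB2 r a k * tab3 mListB2 r k c = 0 := by
  decide +kernel

theorem dMN_B2 : ∀ r < 8, ∀ a < 5, ∀ c < 5,
    ∑ k ∈ Finset.range 5, tab3 mListB2 r a k * tab3 nListB2 r k c = 0 := by
  decide +kernel

theorem dMM_B2 : ∀ r < 8, ∀ a < 5, ∀ c < 5,
    ∑ k ∈ Finset.range 5, tab3 mListB2 r a k * tab3 mListB2 r k c = 0 := by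
  decide +kernel

section

variable (K : Type u) [Field K] (r : ℕ) (hr : r < 8)

include hr

theorem NB2_sq : NB2 K r * NB2 K r = MB2 K r + MB2 K r := by
  rw [NB2_eq, MB2_eq, TM_mul pos5, TM_add]
  exact TM_congr pos5 (dNN_B2 r hr)

theorem NB2_mul_MB2 : NB2 K r * MB2 K r = 0 := by
  rw [NB2_eq, MB2_eq, TM_mul pos5]
  exact TM_zero pos5 (dNM_B2 r hr)

theorem MB2_mul_NB2 : MB2 K r * NB2 K r = 0 := by
  rw [NB2_eq, MB2_eq, TM_mul pos5]
  exact TM_zero pos5 (dMN_B2 r hr)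

theorem MB2_sq : MB2 K r * MB2 K r = 0 := by
  rw [MB2_eq, TM_mul pos5]
  exact TM_zero pos5 (dMM_B2 r hr)

/-- `E_r(s) E_r(t) = E_r(s + t)` -/
theorem EB2mat_mul (s t : K) : EB2mat K r s * EB2mat K r t = EB2mat K r (s + t) := by
  unfold EB2mat
  simp only [Matrix.add_mul, Matrix.mul_add, Matrix.one_mul, Matrix.mul_one, Matrix.smul_mul,
    Matrix.mul_smul, NB2_sq K r hr, NB2_mul_MB2 K r hr, MB2_mul_NB2 K r hr, MB2_sq K r hr,
    smul_zero, add_zero, smul_add, smul_smul]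
  module

theorem EB2mat_zero : EB2mat K r 0 = 1 := by
  unfold EB2mat
  simp

end

/-- [UNIT-B2] -/
theorem pkgUnitB2 : PkgUnitB2.{u} := by
  intro K _ r t hr
  have h1 : EB2mat K r t * EB2mat K r (-t) = 1 := by
    rw [EB2mat_mul K r hr, add_neg_cancel, EB2mat_zero K r hr]
  have h2 : EB2mat K r (-t) * EB2mat K r t = 1 := by
    rw [EB2mat_mul K r hr, neg_add_cancel, EB2mat_zero K r hr]
  exact ⟨⟨EB2mat K r t, EB2mat K r (-t), h1, h2⟩, rfl⟩

end Cfsg.Agent.Lib.Helper47.CHO
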